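import Mathlib

/-! Certificates excluding the weight multisets. -/

set_option autoImplicit false
set_option maxRecDepth 100000

namespace CfsgLib.E8Small

/-- A branch-and-bound tree with dual certificates at the leaves. -/
inductive Tree where
  /-- a dual certificate -/
  | leaf (y : List ℤ)
  /-- a bound on one unknown -/
  | branch (j v : ℕ) (l r : Tree)

/-- Orbit representatives. -/
def reps73 : List ℕ := [0, 2, 4, 8, 10, 14, 16, 20, 22, 26, 28, 32, 34, 38, 40, 44, 46, 50, 52, 56, 58, 62, 64, 68, 70, 74, 76, 80, 92, 94, 98, 104, 106, 112, 116, 122, 124, 128, 130, 134, 140, 142, 146, 148, 152, 158, 160, 182, 184, 188, 196, 202, 206, 212, 214, 224, 230, 232, 238, 242, 364, 368, 374, 392, 404, 458, 476]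

/-- The orbit of an even weight, indexed by half of it. -/
def orb73 : List ℕ := [0, 1, 2, 1, 3, 4, 2, 5, 6, 1, 7, 8, 3, 9, 10, 4, 11, 12, 2, 13, 14, 5, 15, 16, 6, 17, 18, 1, 19, 20, 7, 21, 22, 8, 23, 24, 3, 25, 26, 9, 27, 4, 10, 16, 22, 4, 28, 29, 11, 30, 28, 12, 31, 32, 2, 20, 33, 13, 34, 29, 14, 35, 36, 5, 37, 38, 15, 39, 11, 16, 40, 41, 6, 42, 43, 17, 44, 30, 18, 45, 46, 1, 7, 13, 19, 25, 28, 20, 37, 42, 7, 47, 48, 21, 49, 12, 22, 41, 50, 8, 48, 51, 23, 52, 31, 24, 53, 54, 3, 21, 34, 25, 55, 32, 26, 56, 57, 9, 49, 58, 27, 59, 2, 4, 6, 8, 10, 12, 14, 16, 18, 20, 22, 24, 26, 4, 22, 29, 28, 32, 33, 29, 36, 38, 11, 41, 43, 30, 46, 13, 28, 42, 48, 12, 50, 51, 31, 54, 34, 32, 57, 58, 2, 8, 14, 20, 26, 29, 33, 38, 43, 13, 48, 51, 34, 58, 14, 29, 43, 51, 14, 51, 60, 35, 61, 35, 36, 62, 61, 5, 23, 35, 37, 56,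 36, 38, 63, 62, 15, 52, 61, 39, 64, 5, 11, 17, 23, 16, 31, 35, 40, 45, 37, 41, 53, 56, 6, 24, 36, 42, 57, 38, 43, 62, 63, 17, 53, 62, 44, 65, 15, 30, 44, 52, 18, 54, 61, 45, 66, 39, 46, 65, 64, 1, 3, 5, 7, 9, 11, 13, 15, 17, 19, 21, 23, 25, 27, 16, 28, 30, 31, 20, 34, 35, 37, 39, 40, 42, 44, 45, 7, 25, 37, 47, 49, 41, 48, 52, 53, 21, 55, 56, 49, 59, 6, 12, 18, 24, 22, 32, 36, 41, 46, 42, 50, 54, 57, 8, 26, 38, 48, 58, 43, 51, 61, 62, 23, 56, 63, 52, 64, 17, 31, 45, 53, 24, 57, 62, 53, 65, 44, 54, 66, 65, 3, 9, 15, 21, 27, 30, 34, 39, 44, 25, 49, 52, 55, 59, 18, 32, 46, 54, 26, 58, 61, 56, 64, 45, 57, 65, 66, 9, 27, 39, 49, 59, 46, 58, 64, 65, 27, 59, 64, 59]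

/-- The position in the orbit, indexed by half of the weight. -/
def pos73 : List ℕ := [0, 0, 0, 1, 0, 0, 1, 0, 0, 2, 0, 0, 1, 0, 0, 1, 0, 0, 2, 0, 0, 1, 0, 0, 1, 0, 0, 3, 0, 0, 1, 0, 0, 1, 0, 0, 2, 0, 0, 1, 0, 4, 1, 4, 4, 2, 0, 0, 1, 0, 2, 1, 0, 0, 3, 3, 0, 1, 0, 2, 1, 0, 0, 2, 0, 0, 1, 0, 3, 1, 0, 0, 2, 0, 0, 1, 0, 2, 1, 0, 0, 4, 4, 4, 1, 4, 4, 1, 4, 4, 2, 0, 0, 1, 0, 3, 1, 3, 0, 2, 2, 0, 1, 0, 2, 1, 0, 0, 3, 3, 3, 1, 0, 2, 1, 0, 0, 2, 2, 0, 1, 0, 5, 5, 5, 5, 2, 5, 5, 5, 5, 5, 5, 5, 5, 3, 3, 5, 1, 5, 2, 1, 5, 5, 2, 5, 5, 1, 5, 3, 3, 3, 5, 2, 2, 5, 1, 5, 2, 1, 5, 5, 4, 4, 4, 4, 4, 4, 1, 4, 4, 2, 4, 4, 1, 4, 3, 3, 3, 3, 2, 2, 0, 1, 0, 2, 1, 0, 1, 3, 3, 3, 1, 3, 2, 1, 0, 1, 2, 2, 2, 1, 0, 4, 4, 4, 4, 2, 4, 4, 1, 4, 2, 1, 4, 4, 3, 3, 3, 1, 3, 2, 1, 4, 1, 2, 2, 2, 1, 0, 3, 3, 3, 3, 2, 2, 3, 1, 0, 2, 1, 2, 1,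 5, 5, 5, 5, 5, 5, 5, 5, 5, 2, 5, 5, 5, 5, 3, 5, 5, 5, 2, 5, 5, 5, 5, 2, 5, 5, 5, 3, 3, 3, 1, 5, 2, 1, 5, 5, 2, 2, 5, 1, 5, 4, 4, 4, 4, 2, 4, 4, 4, 4, 2, 1, 4, 4, 3, 3, 3, 3, 3, 2, 1, 5, 5, 2, 2, 2, 1, 5, 3, 3, 3, 3, 2, 2, 3, 1, 5, 2, 1, 2, 1, 4, 4, 4, 4, 4, 4, 4, 4, 4, 2, 4, 4, 1, 4, 3, 3, 3, 3, 2, 2, 4, 1, 4, 2, 1, 4, 1, 3, 3, 3, 3, 3, 2, 1, 3, 3, 2, 2, 2, 1]

/-- The orbit sums of the counts. -/
def vecs73 : List (List ℕ) := [[1, 0, 0, 0, 0, 0, 0, 0], [6, 12, 0, 0, 0, 0, 0, 12], [0, 12, 12, 0, 0, 0, 0, 12], [6, 24, 12, 12, 0, 0, 0, 24], [0, 0, 0, 12, 12, 0, 0, 12], [0, 12, 24, 12, 12, 12, 0, 36], [0, 24, 12, 12, 12, 12, 0, 36], [6, 36, 0, 0, 0, 12, 0, 24], [0, 24, 12, 0, 12, 24, 0, 36], [6, 48, 24, 24, 24, 24, 12, 84], [0, 0, 0, 0, 0, 0, 12, 6], [0, 0, 12, 12, 24, 0, 24, 36], [0, 0, 12, 0, 12, 24, 24, 36],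 [0, 24, 24, 0, 0, 24, 0, 36], [0, 12, 24, 0, 12, 36, 12, 48], [0, 24, 48, 12, 36, 60, 36, 108], [0, 0, 0, 24, 12, 12, 24, 36], [0, 24, 48, 36, 36, 36, 36, 108], [0, 24, 48, 24, 36, 48, 36, 108], [3, 12, 0, 0, 12, 0, 0, 12], [0, 12, 24, 0, 24, 0, 12, 36], [6, 48, 24, 24, 24, 12, 24, 84], [0, 0, 0, 36, 12, 12, 12, 36], [0, 24, 36, 36, 24, 48, 48, 108], [0, 24, 36, 48, 36, 24, 48, 108], [6, 48, 24, 36, 24, 24, 0, 84], [0, 24, 48, 36, 36, 36, 36, 108], [6, 72, 72, 96, 84, 72, 84, 240], [0, 12, 0, 36, 12, 0, 12, 36], [0, 12, 0, 36, 12, 12, 24, 48], [0, 24, 12, 72, 48, 12, 48, 108], [0, 12, 12, 48, 36, 48, 60, 108], [0, 24, 0, 72, 36, 24, 60, 108], [0, 0, 12, 0, 12, 12, 12, 24], [0, 24, 48, 24, 36, 48, 36, 108], [0, 24, 36, 48, 36, 72, 72, 144], [0, 24, 36, 60, 60, 36, 72, 144], [0, 36, 48, 36, 48, 24, 24, 108],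 [0, 36, 48, 48, 48, 48, 60, 144], [0, 72, 108, 108, 108, 120, 132, 324], [0, 12, 12, 24, 24, 12, 24, 54], [0, 36, 36, 36, 36, 36, 36, 108], [12, 60, 36, 36, 24, 36, 12, 108], [12, 72, 36, 48, 36, 48, 36, 144], [12, 120, 96, 108, 108, 96, 108, 324], [0, 84, 108, 120, 108, 108, 120, 324], [12, 108, 96, 120, 108, 96, 108, 324], [6, 24, 12, 0, 0, 12, 0, 28], [12, 60, 72, 0, 24, 48, 0, 108], [18, 120, 96, 60, 72, 72, 48, 240], [0, 24, 36, 0, 12, 24, 12, 54], [12, 84, 84, 12, 48, 36, 12, 144], [12, 120, 132, 48, 96, 132, 108, 324], [0, 84, 108, 108, 120, 108, 120, 324], [12, 120, 144, 60, 108, 120, 84, 324], [3, 36, 36, 60, 36, 36, 36, 120], [0, 60, 84, 132, 120, 108, 144, 324], [12, 96, 72, 120, 120, 96, 132, 324], [12, 132, 132, 72, 108, 108, 84, 324], [18, 228, 228, 252, 252, 228, 252, 732], [4, 24, 12, 12, 12,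 0, 0, 32], [24, 192, 144, 132, 132, 132, 108, 432], [12, 132, 108, 180, 144, 132, 156, 432], [0, 48, 60, 96, 84, 60, 84, 216], [24, 312, 324, 312, 312, 336, 324, 972], [24, 300, 300, 348, 312, 324, 336, 972], [12, 168, 180, 144, 156, 168, 144, 486]]

/-- The orbit sums of the dimensions. -/
def dims73 : List ℕ := [1, 18, 24, 54, 24, 72, 72, 54, 72, 162, 12, 72, 72, 72, 96, 216, 72, 216, 216, 27, 72, 162, 72, 216, 216, 162, 216, 486, 72, 96, 216, 216, 216, 48, 216, 288, 288, 216, 288, 648, 108, 216, 216, 288, 648, 648, 648, 54, 216, 486, 108, 288, 648, 648, 648, 243, 648, 648, 648, 1458, 64, 864, 864, 432, 1944, 1944, 972]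

/-- Certificate 0. -/
def cert73_0 : List ℕ × Tree :=
  ([8, 24, 36, 48, 60, 48, 24, 112], .leaf [0, -1, -1, -1, -1, -1, -1, 2])

/-- Certificate 1. -/
def cert73_1 : List ℕ × Tree :=
  ([8, 24, 36, 48, 60, 48, 24, 128], .leaf [0, 9, 3, 4, 5, 3, 7, -9])

/-- Certificate 2. -/
def cert73_2 : List ℕ × Tree :=
  ([8, 24, 60, 48, 24, 36, 48, 112], .leaf [0, 8, -4, -1, 11, 2, 2, -4])

/-- Certificate 3. -/
def cert73_3 : List ℕ × Tree :=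
  ([8, 24, 60, 48, 24, 36, 48, 128], .leaf [0, 8, -4, -1, 11, 2, 2, -4])

/-- Certificate 4. -/
def cert73_4 : List ℕ × Tree :=
  ([8, 36, 36, 36, 36, 48, 48, 112], .leaf [0, -1, -1, -1, -1, -1, -1, 2])

/-- Certificate 5. -/
def cert73_5 : List ℕ × Tree :=
  ([8, 36, 36, 36, 36, 48, 48, 128], .branch 5 0 (.branch 17 0 (.branch 18 0 (.branch 14 0 (.branch 15 0 (.branch 12 1 (.branch 11 0 (.branch 13 0 (.branch 23 0 (.branch 24 0 (.branch 26 0 (.branch 31 0 (.branch 8 0 (.branch 9 0 (.branch 25 0 (.branch 6 0 (.branch 34 0 (.branch 41 0 (.branch 21 0 (.branch 37 0 (.branch 50 0 (.leaf [18, 6, 9, 8, 7, 5, 9, -15]) (.leaf [0, 2, 8, 3, 0, -2, 1, -2])) (.leaf [0, 1, 3, 0, 3, -3, 0, 0])) (.leaf [0, 3, -3, -2, 9, -3, 0, 0])) (.leaf [0, 4, 10, 4, -2, -2, 1, -2])) (.leaf [0, 2, 2, -2, 12, -1, 1, -2])) (.leaf [0, 6,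 0, 2, 6, 3, 3, -6])) (.leaf [0, 1, -1, -1, -1, -1, -1, 2])) (.leaf [0, 1, -1, -1, -1, -1, -1, 2])) (.leaf [0, 8, -4, 0, 5, 5, 2, -4])) (.leaf [0, -1, -1, 1, -1, -1, 1, 2])) (.leaf [0, 21, 18, 1, 60, -18, 9, -18])) (.leaf [0, 2, 3, 2, 5, -2, 1, -2])) (.leaf [0, 4, 10, 4, -2, -2, 1, -2])) (.leaf [0, 2, 1, 1, 1, 1, 1, -2])) (.leaf [0, 6, 9, 2, 15, -6, 3, -6])) (.leaf [4, -1, 3, -1, 2, 3, 5, -1])) (.leaf [0, 2, 2, -2, 9, 2, 1, -2])) (.branch 11 0 (.branch 12 0 (.branch 15 0 (.branch 14 1 (.branch 16 0 (.branch 13 0 (.branch 8 0 (.branch 9 0 (.branch 6 0 (.branch 21 0 (.branch 23 0 (.branch 24 0 (.branch 25 0 (.branch 26 0 (.branch 29 0 (.branch 30 0 (.branch 31 0 (.branch 32 0 (.branch 22 0 (.leaf [0, 10, 16, 2, 9, -10, 5, -10]) (.leaf [12, 2, 6, 5, 3, 6, 4, -8])) (.leaf [0, 0, -1, 1, 1, 1, 1, 1])) (.leaf [0,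 -1, 0, 1, 1, 1, 1, 1])) (.leaf [0, 1, -2, 2, 2, -2, 2, 2])) (.leaf [0, 4, 3, 5, 0, 3, 2, -4])) (.leaf [0, -1, 1, -1, 1, 1, 0, 1])) (.leaf [0, 2, 2, 0, -2, 2, -1, 2])) (.leaf [0, -1, 1, 1, 1, 1, 1, 1])) (.leaf [0, 0, 1, 0, -1, 1, 1, 1])) (.leaf [0, 2, 2, -2, 3, -2, -1, 2])) (.leaf [0, 7, -2, -2, 4, 7, 1, -2])) (.leaf [0, 2, 2, -2, 0, 2, -1, 2])) (.leaf [0, 3, -3, -3, 1, 3, -1, 2])) (.leaf [0, 3, 3, -3, 1, 3, -1, 2])) (.leaf [0, 4, 0, 1, 3, 4, 2, -4])) (.leaf [0, -1, 1, -1, -1, 1, -1, 2])) (.leaf [0, -1, 1, -1, 1, 1, 0, 1])) (.leaf [0, -1, 1, -1, 0, 1, 1, 1])) (.leaf [0, 2, 3, -2, 13, -2, 1, -2]))) (.leaf [0, 2, 2, -2, 12, -1, 1, -2])) (.leaf [0, 9, 15, 1, 27, -15, 3, -6])) (.branch 8 0 (.leaf [108, 26, 77, 56, 27, 28, 40, -80]) (.leaf [0, 2, 4, 1, 4, -2, 1, -2])))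

/-- Certificate 6. -/
def cert73_6 : List ℕ × Tree :=
  ([8, 36, 36, 36, 48, 36, 48, 112], .leaf [0, -1, -1, -1, -1, -1, -1, 2])

/-- Certificate 7. -/
def cert73_7 : List ℕ × Tree :=
  ([8, 36, 36, 36, 48, 36, 48, 128], .branch 8 0 (.branch 9 0 (.branch 5 0 (.branch 12 1 (.branch 11 0 (.branch 15 0 (.branch 17 0 (.branch 18 0 (.branch 14 0 (.branch 13 0 (.branch 6 0 (.branch 21 0 (.branch 23 0 (.branch 25 0 (.branch 26 0 (.branch 31 0 (.branch 29 0 (.branch 30 0 (.branch 32 0 (.branch 34 0 (.branch 37 0 (.branch 40 0 (.branch 41 0 (.branch 50 0 (.leaf [14, 3, 7, 6, 4, 4, 5, -10]) (.leaf [0, 4, 10, 4, -2, -2, 1, -2])) (.leaf [0, 4, 10, 4, -2, -2, 1, -2])) (.branch 12 0 (.branch 41 0 (.branch 50 0 (.leaf [30, 9, 15, 13, 12, 8, 13, -24]) (.leaf [0, 6, 6, 4, 2, 2, 3, -6])) (.leaf [0, 1, 1, 1, 1, 1, 1, 1])) (.leaf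 [0, 1, 0, 1, 0, 1, 2, -1]))) (.leaf [0, 9, 6, 1, 18, -6, 3, -6])) (.leaf [0, -1, 1, -1, -1, 1, -1, 2])) (.leaf [0, -3, -4, 4, -4, -4, 4, 7])) (.leaf [0, 13, -6, 6, 38, -6, 3, -6])) (.leaf [0, 5, 2, 5, 0, 2, 6, -5])) (.leaf [0, -1, -1, 1, -1, 1, 1, 2])) (.leaf [0, 3, 2, 4, -1, 2, 1, -2])) (.leaf [0, 2, 1, 3, -2, 1, 0, 0])) (.leaf [0, 2, 1, 2, -1, 1, 1, -1])) (.leaf [0, 1, -1, -1, -1, -1, -1, 2])) (.leaf [0, 8, 1, 3, 5, 6, 4, -8])) (.leaf [0, 4, 3, 4, 0, 3, 2, -4])) (.leaf [0, 4, 0, 1, 3, 4, 2, -4])) (.leaf [0, -1, 1, -1, -1, 1, -1, 2])) (.leaf [0, 3, 2, 4, -1, 2, 1, -2])) (.leaf [0, -1, 1, -1, -1, 1, -1, 2])) (.branch 25 0 (.branch 6 0 (.branch 29 0 (.branch 31 0 (.branch 32 0 (.leaf [52, 12, 31, 22, 16, 14, 20, -38]) (.leaf [0, 1, -2, 2, 2, -2, 2, 2])) (.leaf [0, -1, 0, 1, 1, 1, 1, 1])) (.leaf [0, 4, 3, 4,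 -2, -4, 12, -2])) (.leaf [0, 6, 9, 2, 15, -6, 3, -6])) (.leaf [0, 1, -1, 1, -1, -1, -1, 2]))) (.leaf [12, -1, 5, -3, 6, 3, 13, -3])) (.leaf [36, 10, 25, 19, 9, 11, 14, -28])) (.leaf [0, 1, -1, -1, -1, -1, -1, 2])) (.leaf [0, 8, 1, 3, 6, 5, 4, -8]))

/-- Certificate 8. -/
def cert73_8 : List ℕ × Tree :=
  ([8, 36, 36, 36, 48, 48, 36, 112], .leaf [0, -1, -1, -1, -1, -1, -1, 2])

/-- Certificate 9. -/
def cert73_9 : List ℕ × Tree :=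
  ([8, 36, 36, 36, 48, 48, 36, 128], .branch 5 0 (.branch 14 0 (.branch 15 0 (.branch 17 0 (.branch 18 0 (.branch 12 1 (.branch 23 0 (.branch 26 0 (.branch 31 0 (.branch 11 0 (.branch 13 0 (.branch 25 0 (.branch 34 0 (.branch 50 0 (.branch 8 0 (.leaf [8, 6, 5, 5, 5, 3, 7, -10]) (.leaf [0, 12, 0, 4, 9, 9, 6, -12])) (.leaf [0, 4, 10, 4, -2, -2, 1, -2])) (.leaf [0, -1, 1, -1, 0, 1, 1, 1])) (.leaf [0, 1, 3, 1, -1, -1, 0, 0])) (.leaf [0, 2, 4, 2, 0, 0, 1, -2])) (.leaf [0, 4, 1, 1, 1, -2, 4, -2])) (.leaf [0, -1, -1, 1, -1, -1, 1, 2])) (.leaf [0, 5, 2, 4, -2, -2, 7, -2])) (.leaf [0, 2, 4, 2, -1, -1, 1, -1])) (.leaf [4, -2, 1, -1, 0, 2, 2, 1])) (.leaf [0, -1, 1, -1, 0, 1, 1, 1])) (.leaf [0, 5, 2, 4, -2, -2, 7, -2])) (.leaf [0, -1, 1, -1, 0, 1, 1, 1])) (.branch 12 0 (.branch 11 0 (.branch 15 0 (.branch 17 0 (.branch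 18 0 (.branch 14 1 (.branch 13 0 (.branch 8 0 (.branch 23 0 (.branch 26 0 (.branch 31 0 (.branch 9 0 (.branch 25 0 (.branch 6 0 (.branch 21 0 (.branch 29 0 (.branch 30 0 (.branch 32 0 (.branch 34 0 (.branch 37 0 (.branch 40 0 (.branch 41 0 (.branch 50 0 (.leaf [14, 3, 7, 6, 4, 4, 5, -10]) (.leaf [0, -1, 1, -1, -1, 1, -1, 2])) (.leaf [0, 1, 1, 0, -1, 1, 1, 1])) (.leaf [0, 1, 3, 1, 0, -1, 1, -1])) (.leaf [0, 2, 2, -2, 2, 2, -1, 2])) (.leaf [0, -1, 1, -1, 0, 1, 1, 1])) (.leaf [0, 0, -1, 1, -1, 1, 1, 1])) (.leaf [0, 1, -2, 2, 2, -2, 2, 2])) (.leaf [0, 8, -4, 9, -4, 7, 20, -4])) (.leaf [0, 2, 2, 0, -2, -2, -1, 2])) (.leaf [0, 4, 10, 4, -2, -2, 1, -2])) (.leaf [0, 2, 2, 0, -2, 2, -1, 2])) (.leaf [0, 2, 2, 0, -2, 2, -1, 2])) (.leaf [0, -1, 0, 1, 0, 1, 1, 1])) (.leaf [0, 0, 1, 0, -1, 1, 1, 1])) (.leaf [0, 0, 1, 0,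 -1, 1, 1, 1])) (.leaf [0, 3, -3, -3, 1, 3, -1, 2])) (.leaf [0, -1, 1, -1, -1, 1, -1, 2])) (.leaf [0, -1, 1, -1, -1, 1, -1, 2])) (.leaf [0, -1, 1, -1, 0, 1, 1, 1])) (.leaf [0, 0, 1, 0, -1, 1, 1, 1])) (.leaf [0, -1, 1, -1, 0, 1, 1, 1])) (.leaf [0, 1, 2, -1, 2, -1, 5, -1])) (.leaf [2, 0, 2, -1, 2, 1, 4, -1]))) (.leaf [0, 1, 3, 1, 0, -1, 1, -1]))

/-- Certificate 10. -/
def cert73_10 : List ℕ × Tree :=
  ([8, 36, 36, 48, 48, 36, 36, 112], .leaf [0, -1, -1, -1, -1, -1, -1, 2])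

/-- Certificate 11. -/
def cert73_11 : List ℕ × Tree :=
  ([8, 36, 36, 48, 48, 36, 36, 128], .branch 5 0 (.branch 17 0 (.branch 18 0 (.branch 14 0 (.branch 15 0 (.branch 12 0 (.branch 26 0 (.branch 23 0 (.branch 31 0 (.branch 11 0 (.branch 13 0 (.branch 8 0 (.branch 9 0 (.branch 25 0 (.branch 6 0 (.branch 34 0 (.branch 37 0 (.branch 41 0 (.branch 21 0 (.branch 50 0 (.leaf [18, 6, 9, 8, 7, 5, 9, -15]) (.leaf [0, 1, 3, 1, 0, -1, 1, -1])) (.leaf [0, 23, -23, -12, -1, -23, 21, 13])) (.leaf [0, 5, -1, 2, -1, -1, 5, -1])) (.leaf [0, 3, 2, -2, 13, -2, 1, -2])) (.leaf [0, -1, 1, -1, 0, 1, 1, 1])) (.leaf [0, 12, 0, 4, 9, 9, 6, -12])) (.leaf [0, 1, -1, -1, -1, -1, -1, 2])) (.leaf [0, 1, -1, -1, -1, -1, -1, 2])) (.leaf [0, 8, -4, -1, 5, 8, 2, -4])) (.leaf [0, 8, 1, 3, 5, 6, 4, -8])) (.leaf [0, 2, 1, 1, 1, 0, 2, -2]))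 (.leaf [0, -1, -1, -1, -1, 1, 1, 2])) (.leaf [0, -1, -1, -1, -1, 1, 1, 2])) (.leaf [0, -1, 1, -1, 0, 1, 1, 1])) (.branch 26 0 (.branch 22 0 (.leaf [0, 12, 0, 2, 10, 7, 8, -12]) (.leaf [0, 2, -1, 2, -1, 2, 5, -1])) (.leaf [0, -1, 1, -1, 0, 1, 1, 1]))) (.leaf [0, -1, 1, -1, 0, 1, 1, 1])) (.leaf [0, 5, 0, 1, 4, 5, 3, -5])) (.leaf [0, -1, 1, -1, 0, 1, 1, 1])) (.leaf [0, -1, 1, -1, 0, 1, 1, 1])) (.branch 6 0 (.branch 8 0 (.branch 9 0 (.branch 21 0 (.branch 25 0 (.branch 29 0 (.branch 31 0 (.branch 32 0 (.leaf [14, 3, 8, 6, 4, 4, 5, -10]) (.leaf [0, 1, -1, 1, -1, -1, 1, 1])) (.leaf [0, -1, 0, 1, 0, 1, 1, 1])) (.leaf [0, 20, 1, 20, -10, 1, 28, -10])) (.leaf [0, 1, 1, -1, -1, -1, -1, 2])) (.leaf [0, 1, 1, -1, -1, -1, -1, 2])) (.leaf [0, 1, 1, -1, -1, -1, -1, 2])) (.leaf [0, 7, -2, -2, 4, 7, 1, -2])) (.leaf [0, 4,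 10, 4, -2, -2, 1, -2])))

/-- Certificate 12. -/
def cert73_12 : List ℕ × Tree :=
  ([8, 36, 48, 24, 48, 24, 60, 112], .leaf [0, -1, -1, -1, -1, -1, -1, 2])

/-- Certificate 13. -/
def cert73_13 : List ℕ × Tree :=
  ([8, 36, 48, 24, 48, 24, 60, 128], .branch 5 0 (.branch 17 0 (.branch 18 0 (.branch 11 1 (.branch 26 0 (.branch 12 0 (.branch 24 0 (.branch 14 0 (.branch 23 0 (.branch 15 0 (.branch 13 0 (.branch 31 0 (.branch 8 0 (.branch 9 0 (.branch 6 0 (.branch 25 0 (.branch 29 0 (.branch 34 0 (.branch 41 0 (.branch 21 0 (.branch 32 0 (.branch 40 0 (.branch 37 0 (.branch 30 0 (.branch 50 0 (.branch 11 0 (.branch 22 0 (.leaf [0, 4, 0, 1, 3, 3, 2, -4]) (.leaf [0, 0, 0, 1, 0, 0, 0, 0])) (.leaf [14, 3, 7, 6, 4, 4, 5, -10])) (.leaf [0, 2, 2, 2, 0, 1, 1, -2])) (.leaf [0, 13, -6, 6, 38, -6, 3, -6])) (.leaf [0, 7,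 -2, 2, 10, -2, 1, -2])) (.leaf [0, 4, 0, 2, 3, 3, 2, -4])) (.leaf [0, 1, -1, 1, -1, 1, 3, 0])) (.leaf [0, 5, -5, 3, -5, 1, -3, 6])) (.leaf [0, 3, -2, 2, -2, 2, -1, 2])) (.leaf [0, -1, -1, -1, -1, 1, -1, 2])) (.leaf [0, 4, 0, 4, 3, 3, 2, -4])) (.leaf [0, 5, -5, 5, -5, 1, -3, 6])) (.leaf [0, 8, -4, 2, 5, 5, 2, -4])) (.leaf [0, 5, -5, 3, -5, 1, -3, 6])) (.leaf [0, 8, -4, -1, 5, 8, 2, -4])) (.leaf [0, -1, -1, 1, -1, 1, -1, 2])) (.leaf [0, 4, 3, 4, 0, 3, 2, -4])) (.leaf [0, -1, -1, -1, -1, 1, -1, 2])) (.leaf [0, -1, -1, 1, -1, 1, -1, 2])) (.leaf [0, 0, 0, 0, 0, 1, 0, 0])) (.leaf [0, -1, -1, 1, -1, -1, -1, 2])) (.leaf [0, 4, 0, 1, 3, 4, 2, -4])) (.leaf [0, -1, -1, 1, -1, 1, -1, 2])) (.leaf [0, 6, 9, 2, 15, -6, 3, -6])) (.leaf [0, -1, -1, -1, -1, 1, -1, 2])) (.leaf [0, -1, -1, 1, -1, 1, -1, 2])) (.branch 11 0 (.branch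 12 0 (.branch 8 0 (.leaf [24, 8, 15, 14, 6, 9, 10, -20]) (.leaf [0, 7, -3, 1, -3, 3, -1, 2])) (.leaf [0, 0, 0, 0, 0, 1, 0, 0])) (.branch 8 0 (.leaf [28, 6, 15, 17, 7, 9, 10, -20]) (.leaf [0, 4, 3, 5, -2, 2, 1, -2]))))

/-- Certificate 14. -/
def cert73_14 : List ℕ × Tree :=
  ([8, 36, 48, 36, 36, 36, 48, 112], .leaf [0, -1, -1, -1, -1, -1, -1, 2])

/-- Certificate 15. -/
def cert73_15 : List ℕ × Tree :=
  ([8, 36, 48, 36, 36, 36, 48, 128], .branch 5 1 (.branch 17 0 (.branch 26 0 (.branch 22 0 (.leaf [0, 26, 1, 7, 23, 15, 13, -26]) (.leaf [0, 4, 0, 2, 3, 3, 2, -4])) (.leaf [0, 2, 8, 3, 0, -2, 1, -2])) (.leaf [0, 2, 8, 3, 0, -2, 1, -2])) (.leaf [0, 2, 8, 3, 0, -2, 1, -2]))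

/-- Certificate 16. -/
def cert73_16 : List ℕ × Tree :=
  ([8, 36, 48, 48, 36, 36, 36, 112], .leaf [0, -1, -1, -1, -1, -1, -1, 2])

/-- Certificate 17. -/
def cert73_17 : List ℕ × Tree :=
  ([8, 36, 48, 48, 36, 36, 36, 128], .leaf [0, 8, 1, 3, 7, 4, 4, -8])

/-- Certificate 18. -/
def cert73_18 : List ℕ × Tree :=
  ([8, 48, 24, 36, 24, 60, 48, 112], .leaf [0, -1, -1, -1, -1, -1, -1, 2])

/-- Certificate 19. -/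
def cert73_19 : List ℕ × Tree :=
  ([8, 48, 24, 36, 24, 60, 48, 128], .leaf [0, 6, 9, 2, 15, -6, 3, -6])

/-- Certificate 20. -/
def cert73_20 : List ℕ × Tree :=
  ([8, 48, 24, 60, 48, 24, 36, 112], .leaf [0, -1, -1, -1, -1, -1, -1, 2])

/-- Certificate 21. -/
def cert73_21 : List ℕ × Tree :=
  ([8, 48, 24, 60, 48, 24, 36, 128], .branch 6 0 (.branch 9 0 (.branch 21 0 (.branch 25 0 (.branch 8 0 (.branch 32 0 (.leaf [12, 2, 6, 5, 3, 4, 4, -8]) (.leaf [0, -1, -1, 1, -1, -1, 1, 2])) (.leaf [0, 10, 0, 2, 9, 10, 5, -10])) (.leaf [0, 4, 10, 4, -2, -2, 1, -2])) (.leaf [0, 1, 3, 1, 0, -1, 1, -1])) (.leaf [0, 7, -2, -2, 4, 7, 1, -2])) (.branch 5 0 (.branch 11 0 (.branch 17 0 (.branch 18 0 (.branch 12 0 (.branch 15 0 (.branch 14 0 (.branch 16 0 (.branch 13 0 (.branch 8 0 (.branch 9 0 (.branch 6 1 (.branch 21 0 (.branch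 23 0 (.branch 24 0 (.branch 25 0 (.branch 26 0 (.branch 29 0 (.branch 30 0 (.branch 31 0 (.branch 32 0 (.branch 22 0 (.leaf [0, 4, 7, 1, 3, -4, 2, -4]) (.leaf [12, 2, 6, 5, 3, 6, 4, -8])) (.leaf [0, 0, -1, 1, -1, 1, 1, 1])) (.leaf [0, -1, 1, -1, 0, 1, 1, 1])) (.leaf [0, 1, -2, 2, 2, -2, 2, 2])) (.leaf [0, 4, 3, 4, 0, 3, 2, -4])) (.leaf [0, -2, 2, -2, 3, 2, -1, 2])) (.leaf [0, 1, 1, -1, -1, 1, -1, 2])) (.leaf [0, 0, 1, 0, -1, 1, 1, 1])) (.leaf [0, 0, 1, 0, -1, 1, 1, 1])) (.leaf [0, 1, 1, -1, -1, -1, -1, 2])) (.leaf [0, 7, -2, -2, 4, 7, 1, -2])) (.leaf [0, 1, 1, -1, -1, 1, -1, 2])) (.leaf [0, 3, -3, -3, 1, 3, -1, 2])) (.leaf [0, 3, 3, -3, 1, 3, -1, 2])) (.leaf [0, 4, 0, 1, 3, 4, 2, -4])) (.leaf [0, -1, 1, -1, -1, 1, -1, 2])) (.leaf [0, -2, 2, -2, 3, 2, -1, 2])) (.leaf [0, -1, 1, -1, 0, 1, 1, 1])) (.leaf [0,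 -2, 2, -2, 3, 2, -1, 2])) (.leaf [0, -2, 2, -2, 3, 2, -1, 2])) (.leaf [4, 1, 5, -3, 15, 1, 2, -3])) (.leaf [0, 0, 1, 0, 0, 0, 0, 0])))

/-- Certificate 22. -/
def cert73_22 : List ℕ × Tree :=
  ([8, 48, 36, 36, 36, 48, 36, 112], .leaf [0, -1, -1, -1, -1, -1, -1, 2])

/-- Certificate 23. -/
def cert73_23 : List ℕ × Tree :=
  ([8, 48, 36, 36, 36, 48, 36, 128], .branch 6 0 (.branch 8 0 (.branch 9 0 (.branch 21 0 (.branch 25 0 (.branch 29 0 (.branch 31 0 (.branch 32 0 (.leaf [14, 3, 8, 6, 4, 4, 5, -10]) (.leaf [0, -1, -1, 1, -1, -1, 1, 2])) (.leaf [0, -1, -1, 1, -1, -1, 1, 2])) (.leaf [4, 6, 4, 7, 1, 3, 8, -8])) (.leaf [0, 4, 10, 4, -2, -2, 1, -2])) (.leaf [0, 5, -1, 0, 2, -1, 2, -1])) (.leaf [0, 7, -2, -1, 10, -2, 1, -2])) (.leaf [0, 8, 1, 3, 7, 4, 4, -8])) (.branch 5 0 (.branch 17 0 (.branch 26 0 (.branch 22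 0 (.leaf [0, 9, 1, 2, 7, 4, 6, -9]) (.leaf [0, 0, 0, 1, 0, 0, 0, 0])) (.leaf [0, -2, 6, 6, 6, -6, -3, 6])) (.leaf [0, -2, 6, 6, 6, -6, -3, 6])) (.leaf [0, 2, 8, 3, 0, -2, 1, -2])))

/-- Certificate 24. -/
def cert73_24 : List ℕ × Tree :=
  ([8, 48, 36, 48, 36, 36, 36, 112], .leaf [0, -1, -1, -1, -1, -1, -1, 2])

/-- Certificate 25. -/
def cert73_25 : List ℕ × Tree :=
  ([8, 48, 36, 48, 36, 36, 36, 128], .branch 5 0 (.branch 14 0 (.branch 15 0 (.branch 17 0 (.branch 18 0 (.branch 12 0 (.branch 11 0 (.branch 13 0 (.branch 23 0 (.branch 24 0 (.branch 26 0 (.branch 31 0 (.branch 8 0 (.branch 9 0 (.branch 25 0 (.branch 6 0 (.branch 34 0 (.branch 41 0 (.branch 21 0 (.branch 37 0 (.branch 50 0 (.leaf [18, 6, 9, 8, 7, 5, 9, -15]) (.branch 29 0 (.branch 32 0 (.leaf [12, 3, 11, 5, 4, 3, 5, -9]) (.leaf [0, 0, -1, 1,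 1, 1, 1, 1])) (.leaf [0, 1, 3, 1, 0, -1, 1, -1]))) (.leaf [0, -7, 15, -15, 15, -15, -9, 18])) (.leaf [0, 10, -2, 0, 7, -2, 1, -2])) (.leaf [0, 2, 3, -2, 13, -2, 1, -2])) (.leaf [0, -2, 2, -2, 3, 2, -1, 2])) (.leaf [0, 6, 0, 2, 6, 3, 3, -6])) (.leaf [0, 10, -2, 0, 7, -2, 1, -2])) (.leaf [0, 10, -2, 0, 7, -2, 1, -2])) (.leaf [0, 8, -4, -1, 5, 8, 2, -4])) (.leaf [0, -1, -1, -1, -1, 1, 1, 2])) (.leaf [0, -2, 2, -2, 3, 2, -1, 2])) (.leaf [0, 1, 3, 1, 0, -1, 1, -1])) (.leaf [0, -1, 1, -1, 0, 1, 1, 1])) (.branch 16 0 (.branch 13 1 (.branch 8 0 (.branch 9 0 (.branch 6 0 (.branch 21 0 (.branch 23 0 (.branch 24 0 (.branch 25 0 (.branch 26 0 (.branch 29 0 (.branch 30 0 (.branch 31 0 (.branch 32 0 (.branch 22 0 (.leaf [0, 4, 7, 1, 3, -4, 2, -4]) (.leaf [12, 2, 6, 5, 3, 6, 4, -8])) (.leaf [0, 0, -1, 1, -1, 1, 1, 1])) (.leaf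 [0, -1, 1, -1, 0, 1, 1, 1])) (.leaf [0, 1, -2, 2, 2, -2, 2, 2])) (.leaf [0, 4, 3, 4, 0, 3, 2, -4])) (.leaf [0, -2, 2, -2, 3, 2, -1, 2])) (.leaf [0, 1, 1, -1, -1, 1, -1, 2])) (.leaf [0, 0, 1, 0, -1, 1, 1, 1])) (.leaf [0, 0, 1, 0, -1, 1, 1, 1])) (.leaf [0, 1, 1, -1, -1, -1, -1, 2])) (.leaf [0, 7, -2, -2, 4, 7, 1, -2])) (.leaf [0, 1, 1, -1, -1, 1, -1, 2])) (.leaf [0, 3, -3, -3, 1, 3, -1, 2])) (.leaf [0, 3, 3, -3, 1, 3, -1, 2])) (.leaf [0, 4, 0, 1, 3, 4, 2, -4]))) (.leaf [24, 6, 15, 7, 15, 6, 12, -18])) (.branch 6 0 (.branch 13 0 (.branch 25 0 (.leaf [4, 1, 2, 0, 3, 1, 5, -3]) (.leaf [0, 4, -2, -2, 9, 2, 1, -2])) (.leaf [0, -1, 1, -1, 0, 1, 1, 1])) (.leaf [0, 4, -2, -2, 7, 4, 1, -2]))) (.leaf [0, -2, 2, -2, 3, 2, -1, 2])) (.leaf [0, -2, 2, -2, 3, 2, -1, 2])) (.leaf [0, -2, 2, -2, 3, 2, -1, 2])) (.leaf [0, 10,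 0, 2, 9, 10, 5, -10])) (.branch 6 0 (.branch 21 0 (.branch 9 0 (.branch 25 0 (.branch 8 0 (.leaf [168, 36, 90, 79, 42, 54, 60, -120]) (.leaf [0, 7, -2, -2, 4, 7, 1, -2])) (.leaf [0, 1, 1, -1, -1, -1, -1, 2])) (.leaf [0, 1, 1, -1, -1, -1, -1, 2])) (.leaf [0, 3, 3, -3, 17, -3, 1, -2])) (.leaf [0, 2, 4, 1, 4, -2, 1, -2])))

/-- Certificate 26. -/
def cert73_26 : List ℕ × Tree :=
  ([8, 48, 48, 36, 36, 36, 36, 112], .leaf [0, -1, -1, -1, -1, -1, -1, 2])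

/-- Certificate 27. -/
def cert73_27 : List ℕ × Tree :=
  ([8, 48, 48, 36, 36, 36, 36, 128], .branch 5 1 (.branch 12 0 (.branch 11 0 (.branch 14 0 (.branch 15 0 (.branch 17 0 (.branch 18 0 (.branch 13 0 (.branch 23 0 (.branch 24 0 (.branch 26 0 (.branch 31 0 (.branch 8 0 (.branch 9 0 (.branch 6 0 (.branch 25 0 (.branch 34 0 (.branch 41 0 (.branch 21 0 (.branch 32 0 (.branch 40 0 (.branch 50 0 (.leaf [38, 11, 19, 17, 14, 10, 17, -30]) (.branch 5 0 (.branch 16 0 (.branch 29 0 (.branch 30 0 (.branch 22 0 (.leaf [0, 5, 8, 1, 4, -5, 3, -5]) (.leaf [12, 2, 6, 5, 3, 6, 4, -8])) (.leaf [0, 1, -2, 2, 2, -2, 2, 2])) (.leaf [0, 8, -4, 9, -4, 7, 20, -4])) (.leaf [0, 1, 0, 1, 0, 1, 2, -1])) (.leaf [0, 0, 1, 0, 0, 0, 0, 0]))) (.leaf [0, 12, 1, 4, 15, 3, 6, -12])) (.leaf [0, -1, -1, 1, -1, -1, 1, 2])) (.leaf [0, 10, -2,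 0, 7, -2, 1, -2])) (.leaf [0, 4, -2, 1, 4, 1, 1, -2])) (.leaf [4, 0, 4, -2, 11, 2, 1, -2])) (.leaf [0, 10, -2, 0, 7, -2, 1, -2])) (.leaf [0, 6, 0, 2, 6, 3, 3, -6])) (.leaf [0, 10, -2, 0, 7, -2, 1, -2])) (.leaf [0, 8, -4, -1, 5, 8, 2, -4])) (.leaf [0, -1, -1, 1, -1, 1, 1, 2])) (.leaf [24, -6, 12, 5, 6, 18, 3, -6])) (.leaf [0, -1, -1, 1, -1, -1, 1, 2])) (.leaf [0, -1, -1, -1, -1, 1, 1, 2])) (.leaf [0, 8, 1, 3, 5, 6, 4, -8])) (.leaf [4, 0, 4, -2, 11, 2, 1, -2])) (.leaf [24, -6, 12, 5, 6, 18, 3, -6])) (.leaf [4, 0, 4, -2, 11, 2, 1, -2])) (.leaf [0, 4, 0, 1, 3, 4, 2, -4])) (.branch 29 0 (.branch 5 0 (.branch 14 0 (.branch 17 0 (.branch 26 0 (.branch 22 0 (.leaf [0, 8, 1, 1, 7, 3, 6, -8]) (.leaf [0, 0, 0, 1, 0, 0, 0, 0])) (.leaf [0, -1, 1, 1, 1, 1, 1, 1])) (.leaf [0, -1, 1, 1, 1, 1, 1, 1])) (.leaf [8, -2, 6, -2,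 13, 6, 1, -2])) (.leaf [0, 2, 3, -2, 13, -2, 1, -2])) (.leaf [0, -1, -1, 1, -1, -1, 1, 2]))) (.branch 5 0 (.branch 17 0 (.branch 26 0 (.branch 22 0 (.leaf [0, 12, 0, 2, 10, 7, 8, -12]) (.leaf [0, 8, -4, 9, -4, 7, 20, -4])) (.leaf [0, -1, 1, -1, 1, 1, 1, 1])) (.leaf [0, -1, 1, -1, 1, 1, 1, 1])) (.leaf [12, 2, 6, 5, 3, 6, 4, -8]))) (.leaf [0, 2, 8, 3, 0, -2, 1, -2]))

/-- Certificate 28. -/
def cert73_28 : List ℕ × Tree :=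
  ([8, 60, 48, 24, 36, 48, 24, 112], .leaf [0, -1, -1, -1, -1, -1, -1, 2])

/-- Certificate 29. -/
def cert73_29 : List ℕ × Tree :=
  ([8, 60, 48, 24, 36, 48, 24, 128], .branch 9 0 (.branch 8 0 (.branch 5 0 (.branch 6 0 (.branch 21 0 (.leaf [84, 18, 45, 40, 21, 27, 30, -60]) (.leaf [7, 7, -2, 7, -2, -2, 13, -2])) (.branch 17 0 (.branch 18 0 (.branch 14 0 (.branch 15 0 (.branch 26 0 (.branch 12 0 (.branch 13 0 (.leaf [44, 26, 30, 27, 27, 8, 31, -48]) (.leaf [0, 2, 3, 2, 0, 0, 1, -2])) (.leaf [0, 2, 0, 0, 2, 1, 3, -2])) (.leaf [0, -1, 1, 1, 1, 1, 1, 1])) (.leaf [0, -1, 1, -1, 1, 1, 1, 1])) (.leaf [0, 10, 0, 2, 9, 10, 5, -10])) (.leaf [0, -1, 1, 1, 1, 1, 1, 1])) (.leaf [0, -1, 1, 1, 1, 1, 1, 1]))) (.leaf [20, 4, 11, 12, 5, 6, 7, -14])) (.branch 5 1 (.branch 12 0 (.branch 11 0 (.branch 15 0 (.branch 17 0 (.branch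 18 0 (.branch 14 0 (.branch 23 0 (.branch 26 0 (.branch 13 0 (.branch 24 0 (.branch 31 0 (.branch 8 1 (.branch 6 0 (.branch 25 0 (.branch 29 0 (.branch 34 0 (.branch 41 0 (.branch 21 0 (.branch 32 0 (.branch 40 0 (.branch 50 0 (.branch 5 0 (.branch 22 0 (.leaf [0, 5, 0, 1, 4, 3, 3, -5]) (.leaf [0, 0, 0, 1, 0, 0, 0, 0])) (.leaf [30, 7, 15, 13, 10, 8, 11, -22])) (.leaf [0, 4, 1, 1, 3, 4, 2, -4])) (.leaf [0, 39, -18, -17, 114, -18, 9, -18])) (.leaf [0, 0, -2, 2, 2, -1, 2, 2])) (.leaf [0, 1, -1, -1, 4, -1, 0, 0])) (.leaf [0, 0, -1, 1, 1, 1, 1, 1])) (.leaf [0, -1, 1, -1, 1, 1, 1, 1])) (.leaf [0, 3, -4, 4, -4, 2, 10, 1])) (.leaf [0, 1, -1, 1, -1, -1, -1, 2])) (.leaf [0, 5, -2, 0, 4, 1, 1, -2])) (.leaf [0, 8, -4, -1, 5, 8, 2, -4])) (.leaf [0, 0, -1, 1, 1, 1, 1, 1])) (.leaf [0, -1, 0, 1, 1, 1, 1, 1])) (.leaf [0, 4,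 0, 1, 3, 4, 2, -4])) (.leaf [0, -1, 1, 1, 1, 1, 1, 1])) (.leaf [0, -1, 0, 1, 0, 1, 1, 1])) (.leaf [0, 0, 0, 0, 0, 1, 0, 0])) (.leaf [0, -1, 1, -1, 1, 1, 1, 1])) (.leaf [0, -1, 1, 1, 1, 1, 1, 1])) (.leaf [0, -1, 1, -1, 1, 1, 1, 1])) (.leaf [0, 2, 3, -2, 13, -2, 1, -2])) (.leaf [0, 1, 0, 0, 1, 1, 1, -1])) (.leaf [0, -2, 2, -1, 0, 2, -1, 2]))) (.leaf [0, 4, -2, 2, 3, 1, 2, -2]))

/-- Certificate 30. -/
def cert73_30 : List ℕ × Tree :=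
  ([20, 0, 36, 12, 108, 36, 36, 112], .leaf [0, 5, -1, 2, -1, -1, 5, -1])

/-- Certificate 31. -/
def cert73_31 : List ℕ × Tree :=
  ([20, 0, 36, 12, 108, 36, 36, 128], .leaf [0, 5, -1, 2, -1, -1, 5, -1])

/-- Certificate 32. -/
def cert73_32 : List ℕ × Tree :=
  ([20, 12, 0, 36, 36, 108, 36, 112], .leaf [0, 4, 10, 4, -2, -2, 1, -2])

/-- Certificate 33. -/
def cert73_33 : List ℕ × Tree :=
  ([20, 12, 0, 36, 36, 108, 36, 128], .leaf [0, 4, 10, 4, -2, -2, 1, -2])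

/-- Certificate 34. -/
def cert73_34 : List ℕ × Tree :=
  ([20, 36, 12, 0, 36, 36, 108, 112], .leaf [0, 2, 8, 3, 0, -2, 1, -2])

/-- Certificate 35. -/
def cert73_35 : List ℕ × Tree :=
  ([20, 36, 12, 0, 36, 36, 108, 128], .leaf [0, 2, 8, 3, 0, -2, 1, -2])

/-- Certificate 36. -/
def cert73_36 : List ℕ × Tree :=
  ([20, 36, 36, 108, 12, 0, 36, 112], .leaf [0, 4, -2, -2, 7, 4, 1, -2])

/-- Certificate 37. -/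
def cert73_37 : List ℕ × Tree :=
  ([20, 36, 36, 108, 12, 0, 36, 128], .leaf [0, 4, -2, -2, 7, 4, 1, -2])

/-- Certificate 38. -/
def cert73_38 : List ℕ × Tree :=
  ([20, 36, 108, 36, 0, 36, 12, 112], .leaf [0, 7, -2, -2, 13, -2, 1, -2])

/-- Certificate 39. -/
def cert73_39 : List ℕ × Tree :=
  ([20, 36, 108, 36, 0, 36, 12, 128], .leaf [0, 7, -2, -2, 13, -2, 1, -2])

/-- Certificate 40. -/
def cert73_40 : List ℕ × Tree :=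
  ([20, 108, 36, 36, 36, 12, 0, 112], .leaf [0, -1, -1, -1, -1, -1, -1, 2])

/-- Certificate 41. -/
def cert73_41 : List ℕ × Tree :=
  ([20, 108, 36, 36, 36, 12, 0, 128], .leaf [4, 0, 2, 1, 1, 2, 2, -2])

/-- Certificate 42. -/
def cert73_42 : List ℕ × Tree :=
  ([32, 0, 12, 12, 96, 96, 0, 112], .leaf [0, 5, -1, 2, -1, -1, 5, -1])

/-- Certificate 43. -/
def cert73_43 : List ℕ × Tree :=
  ([32, 0, 12, 12, 96, 96, 0, 128], .leaf [0, 5, -1, 2, -1, -1, 5, -1])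

/-- Certificate 44. -/
def cert73_44 : List ℕ × Tree :=
  ([32, 0, 96, 96, 0, 12, 12, 112], .leaf [0, 7, -2, -2, 13, -2, 1, -2])

/-- Certificate 45. -/
def cert73_45 : List ℕ × Tree :=
  ([32, 0, 96, 96, 0, 12, 12, 128], .leaf [0, 7, -2, -2, 13, -2, 1, -2])

/-- Certificate 46. -/
def cert73_46 : List ℕ × Tree :=
  ([32, 12, 0, 12, 0, 96, 96, 112], .leaf [0, 2, 3, -2, 13, -2, 1, -2])

/-- Certificate 47. -/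
def cert73_47 : List ℕ × Tree :=
  ([32, 12, 0, 12, 0, 96, 96, 128], .leaf [0, 2, 3, -2, 13, -2, 1, -2])

/-- Certificate 48. -/
def cert73_48 : List ℕ × Tree :=
  ([32, 12, 12, 0, 96, 0, 96, 112], .leaf [0, 8, 5, 11, -4, 5, 2, -4])

/-- Certificate 49. -/
def cert73_49 : List ℕ × Tree :=
  ([32, 12, 12, 0, 96, 0, 96, 128], .leaf [0, 8, 5, 11, -4, 5, 2, -4])

/-- Certificate 50. -/
def cert73_50 : List ℕ × Tree :=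
  ([32, 96, 0, 96, 12, 0, 12, 112], .leaf [8, -2, 6, -2, 13, 6, 1, -2])

/-- Certificate 51. -/
def cert73_51 : List ℕ × Tree :=
  ([32, 96, 0, 96, 12, 0, 12, 128], .leaf [8, -2, 6, -2, 13, 6, 1, -2])

/-- Certificate 52. -/
def cert73_52 : List ℕ × Tree :=
  ([32, 96, 96, 0, 12, 12, 0, 112], .leaf [0, 8, -4, 9, -4, 7, 20, -4])

/-- Certificate 53. -/
def cert73_53 : List ℕ × Tree :=
  ([32, 96, 96, 0, 12, 12, 0, 128], .leaf [0, 8, -4, 9, -4, 7, 20, -4])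

/-- All certificates. -/
def certs73 : List (List ℕ × Tree) := [cert73_0, cert73_1, cert73_2, cert73_3, cert73_4, cert73_5, cert73_6, cert73_7, cert73_8, cert73_9, cert73_10, cert73_11, cert73_12, cert73_13, cert73_14, cert73_15, cert73_16, cert73_17, cert73_18, cert73_19, cert73_20, cert73_21, cert73_22, cert73_23, cert73_24, cert73_25, cert73_26, cert73_27, cert73_28, cert73_29, cert73_30, cert73_31, cert73_32, cert73_33, cert73_34, cert73_35, cert73_36, cert73_37, cert73_38, cert73_39, cert73_40, cert73_41, cert73_42, cert73_43, cert73_44, cert73_45, cert73_46, cert73_47, cert73_48, cert73_49, cert73_50, cert73_51, cert73_52, cert73_53]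

/-- Orbit representatives. -/
def reps61 : List ℕ := [0, 2, 4, 8, 10, 14, 16, 20, 22, 26, 32, 34, 38, 40, 44, 50, 52, 62, 68, 70, 76, 80, 122, 134, 152]

/-- The orbit of an even weight, indexed by half of it. -/
def orb61 : List ℕ := [0, 1, 2, 1, 3, 4, 2, 5, 6, 1, 7, 8, 3, 9, 4, 4, 10, 11, 2, 12, 13, 5, 14, 10, 6, 15, 16, 1, 7, 12, 7, 17, 11, 8, 18, 19, 3, 17, 20, 9, 21, 2, 4, 6, 8, 4, 11, 13, 10, 16, 12, 11, 19, 20, 2, 8, 13, 12, 20, 13, 13, 22, 22, 5, 18, 22, 14, 23, 5, 10, 15, 18, 6, 19, 22, 15, 24, 14, 16, 24, 23, 1, 3, 5, 7, 9, 10, 12, 14, 15, 7, 17, 18, 17, 21, 6, 11, 16, 19, 8, 20, 22, 18, 23, 15, 19, 24, 24, 3, 9, 14, 17, 21, 16, 20, 23, 24, 9, 21, 23, 21]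

/-- The position in the orbit, indexed by half of the weight. -/
def pos61 : List ℕ := [0, 0, 0, 1, 0, 0, 1, 0, 0, 2, 0, 0, 1, 0, 3, 1, 0, 0, 2, 0, 0, 1, 0, 2, 1, 0, 0, 3, 3, 3, 1, 0, 2, 1, 0, 0, 2, 2, 0, 1, 0, 4, 4, 4, 4, 2, 4, 4, 1, 4, 2, 1, 4, 4, 3, 3, 3, 1, 3, 2, 1, 0, 1, 2, 2, 2, 1, 0, 3, 3, 3, 3, 2, 2, 3, 1, 0, 2, 1, 2, 1, 4, 4, 4, 4, 4, 4, 4, 4, 4, 2, 4, 4, 1, 4, 3, 3, 3, 3, 2, 2, 4, 1, 4, 2, 1, 4, 1, 3, 3, 3, 3, 3, 2, 1, 3, 3, 2, 2, 2, 1]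

/-- The orbit sums of the counts. -/
def vecs61 : List (List ℕ) := [[1, 0, 0, 0, 0, 0, 0, 0], [5, 10, 0, 0, 0, 0, 0, 10], [0, 10, 10, 0, 0, 0, 0, 10], [5, 20, 10, 10, 0, 0, 0, 20], [0, 0, 0, 10, 10, 0, 0, 10], [0, 10, 30, 10, 10, 0, 0, 30], [0, 10, 20, 10, 10, 10, 0, 30], [5, 20, 0, 0, 0, 10, 10, 20], [0, 10, 20, 0, 0, 20, 10, 30], [5, 30, 30, 20, 20, 20, 10, 70], [0, 0, 0, 20, 30, 10, 0, 30], [0, 0, 0, 10, 20, 10, 20, 30], [0, 10, 10, 10, 0, 10, 20, 30], [0, 10, 10, 10, 10, 20, 20, 40], [0, 20, 40, 30, 50, 20, 20, 90], [0, 20, 40, 40, 50, 30, 0, 90], [0, 20, 20, 40, 40, 30, 30, 90], [5, 30, 10, 20, 0, 30, 40, 70], [0, 30, 40, 20, 20, 30, 40, 90], [0, 30, 20, 30, 20, 30, 50, 90], [0, 30, 20, 20, 10, 50, 50, 90], [5, 60, 60, 60, 60, 80, 80, 200], [10, 50, 20, 40, 30, 40, 50, 120], [10, 90, 90, 90, 90, 80,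 90, 270], [10, 80, 100, 100, 120, 70, 60, 270]]

/-- The orbit sums of the dimensions. -/
def dims61 : List ℕ := [1, 15, 20, 45, 20, 60, 60, 45, 60, 135, 60, 60, 60, 80, 180, 180, 180, 135, 180, 180, 180, 405, 240, 540, 540]

/-- Certificate 0. -/
def cert61_0 : List ℕ × Tree :=
  ([8, 30, 40, 50, 40, 30, 50, 112], .leaf [0, -1, -1, -1, -1, -1, -1, 2])

/-- Certificate 1. -/
def cert61_1 : List ℕ × Tree :=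
  ([8, 30, 40, 50, 40, 30, 50, 128], .leaf [0, 9, 3, 3, 6, 4, 4, -9])

/-- Certificate 2. -/
def cert61_2 : List ℕ × Tree :=
  ([8, 40, 40, 40, 40, 40, 40, 112], .leaf [0, -1, -1, -1, -1, -1, -1, 2])

/-- Certificate 3. -/
def cert61_3 : List ℕ × Tree :=
  ([8, 40, 40, 40, 40, 40, 40, 128], .branch 5 0 (.branch 6 0 (.branch 14 0 (.leaf [0, 11, 1, 5, 6, 8, 4, -11]) (.leaf [0, 1, 7, -2, 2, -2, 0, 0])) (.leaf [0, 13, 5, 4, 9, 5, 6, -13])) (.leaf [0, 15, 29, 10, 12, -11, 11, -15]))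

/-- Certificate 4. -/
def cert61_4 : List ℕ × Tree :=
  ([8, 40, 50, 30, 50, 40, 30, 112], .leaf [0, -1, -1, -1, -1, -1, -1, 2])

/-- Certificate 5. -/
def cert61_5 : List ℕ × Tree :=
  ([8, 40, 50, 30, 50, 40, 30, 128], .leaf [0, 28, 7, 80, -28, 8, 26, -28])

/-- Certificate 6. -/
def cert61_6 : List ℕ × Tree :=
  ([8, 50, 30, 40, 30, 50, 40, 112], .leaf [0, -1, -1, -1, -1, -1, -1, 2])

/-- Certificate 7. -/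
def cert61_7 : List ℕ × Tree :=
  ([8, 50, 30, 40, 30, 50, 40, 128], .leaf [14, -1, 8, -1, 8, -4, 11, -6])

/-- Certificate 8. -/
def cert61_8 : List ℕ × Tree :=
  ([28, 0, 50, 100, 10, 50, 10, 112], .leaf [0, 16, -2, -2, 7, -2, -2, -2])

/-- Certificate 9. -/
def cert61_9 : List ℕ × Tree :=
  ([28, 0, 50, 100, 10, 50, 10, 128], .leaf [0, 16, -2, -2, 7, -2, -2, -2])

/-- Certificate 10. -/
def cert61_10 : List ℕ × Tree :=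
  ([28, 10, 0, 50, 50, 100, 10, 112], .leaf [0, 5, 25, -4, 8, -4, 2, -4])

/-- Certificate 11. -/
def cert61_11 : List ℕ × Tree :=
  ([28, 10, 0, 50, 50, 100, 10, 128], .leaf [0, 5, 25, -4, 8, -4, 2, -4])

/-- Certificate 12. -/
def cert61_12 : List ℕ × Tree :=
  ([28, 10, 10, 0, 100, 50, 50, 112], .leaf [0, 2, 2, 8, -1, -1, -1, -1])

/-- Certificate 13. -/
def cert61_13 : List ℕ × Tree :=
  ([28, 10, 10, 0, 100, 50, 50, 128], .leaf [0, 2, 2, 8, -1, -1, -1, -1])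

/-- Certificate 14. -/
def cert61_14 : List ℕ × Tree :=
  ([28, 50, 10, 10, 50, 0, 100, 112], .leaf [0, 3, 1, 6, -3, 15, -3, -3])

/-- Certificate 15. -/
def cert61_15 : List ℕ × Tree :=
  ([28, 50, 10, 10, 50, 0, 100, 128], .leaf [0, 3, 1, 6, -3, 15, -3, -3])

/-- Certificate 16. -/
def cert61_16 : List ℕ × Tree :=
  ([28, 50, 100, 50, 10, 10, 0, 112], .leaf [0, 2, -1, -1, 5, -1, 5, -1])

/-- Certificate 17. -/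
def cert61_17 : List ℕ × Tree :=
  ([28, 50, 100, 50, 10, 10, 0, 128], .leaf [0, 2, -1, -1, 5, -1, 5, -1])

/-- Certificate 18. -/
def cert61_18 : List ℕ × Tree :=
  ([28, 100, 50, 10, 0, 10, 50, 112], .leaf [0, -2, 0, 0, -1, 4, -4, 2])

/-- Certificate 19. -/
def cert61_19 : List ℕ × Tree :=
  ([28, 100, 50, 10, 0, 10, 50, 128], .leaf [0, 2, 0, 5, 1, 3, -2, -2])

/-- All certificates. -/
def certs61 : List (List ℕ × Tree) := [cert61_0, cert61_1, cert61_2, cert61_3, cert61_4, cert61_5, cert61_6, cert61_7, cert61_8, cert61_9, cert61_10, cert61_11, cert61_12, cert61_13, cert61_14, cert61_15, cert61_16, cert61_17, cert61_18, cert61_19]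

end CfsgLib.E8Small
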